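import Cfsg.Agent.Mrg.Omega.NO1.SE.StrOut
import Cfsg.Agent.Mrg.Omega.NO1.Field.SL2T
import Cfsg.Agent.Mrg.Omega.NO1.Field.FZero


/-!
# LEMMA SE for `Spr` (FIELD-1)

`S : Spr B A`, `L = A false ⊔ A true`, `|A false| ≥ 4`.

* `two` : `L` with the two points `A false`, `A true` satisfies `Two`;
* `spr_main` : (O3) or `IsSz`;
* `spr_dcw` : elements of `L` fixing `B false` and `B true` and inverted by the same involution interchanging them
  commute;
* `sl2t_or_isSz` : `SL2T B A` or `IsSz`.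
-/

set_option autoImplicit false

namespace Cfsg.Agent.Omega.NO1.SE

open Subgroup Cfsg Cfsg.Agent.Omega.NOne.Flat Cfsg.Agent.Omega.NOne.Flat.TI
open Cfsg.Agent.Omega.NO1.Field
open scoped Pointwise

universe u

section inst

variable {M : Type u} [Group M] {B : Bool → Subgroup M} {A : Bool → Subgroup (MulAut M)}

/-- the point `A i` as a subgroup of `L` -/
abbrev pnt (A : Bool → Subgroup (MulAut M)) (i : Bool) : Subgroup ↥(A false ⊔ A true) :=
  (A i).subgroupOf (A false ⊔ A true)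

theorem mem_pnt {i : Bool} {x : ↥(A false ⊔ A true)} : x ∈ pnt A i ↔ (x : MulAut M) ∈ A i := Iff.rfl

/-- conjugates of points -/
theorem mem_conj_pnt {i : Bool} {g x : ↥(A false ⊔ A true)} :
    x ∈ MulAut.conj g • pnt A i ↔ (x : MulAut M) ∈ (A i).map (MulAut.conj (g : MulAut M)).toMonoidHom := by
  rw [Cfsg.Agent.Omega.NoFF.Basic.mem_conj, mem_conj_iff]
  rfl

theorem conj_pnt_eq {i j : Bool} {g : ↥(A false ⊔ A true)}
    (h : (A i).map (MulAut.conj (g : MulAut M)).toMonoidHom = A j) : MulAut.conj g • pnt A i = pnt A j := by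
  ext x
  rw [mem_conj_pnt, h, mem_pnt]

theorem exists_ne (S : Spr B A) (i : Bool) : ∃ a ∈ A i, a ≠ 1 :=
  (A i).bot_or_exists_ne_one.resolve_left (S.Ane i)

/-- `y` maps `A i` to `A j`: it maps `B i` to `B j` -/
theorem map_B (S : Spr B A) {i j : Bool} {y : MulAut M}
    (h : (A i).map (MulAut.conj y).toMonoidHom = A j) : (B i).map (y : M ≃* M).toMonoidHom = B j := by
  obtain ⟨a, ha, ha1⟩ := exists_ne S i
  have h1 : y * a * y⁻¹ ∈ A j := by rw [← h]; exact ⟨a, ha, rfl⟩
  have h2 : y * a * y⁻¹ ≠ 1 := by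
    intro h0
    apply ha1
    calc a = y⁻¹ * (y * a * y⁻¹) * y := by group
      _ = 1 := by rw [h0]; group
  ext m
  rw [mem_map_iff, ← Spr.fix_iff S ha ha1, ← Spr.fix_iff S h1 h2, MulAut.mul_apply, MulAut.mul_apply]
  constructor
  · intro h3
    rw [h3, ← MulAut.mul_apply, mul_inv_cancel, MulAut.one_apply]
  · intro h3
    apply y.injective
    rw [h3, ← MulAut.mul_apply, mul_inv_cancel, MulAut.one_apply]

/-- the elements of `A i` normalise no other point -/
theorem conj_eq_of_norm_pnt (S : Spr B A) {i j : Bool} {g : ↥(A false ⊔ A true)} {v : ↥(A false ⊔ A true)}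
    (hv : (v : MulAut M) ∈ A j) (hv1 : v ≠ 1)
    (hn : MulAut.conj v • MulAut.conj g • pnt A i = MulAut.conj g • pnt A i) :
    (A i).map (MulAut.conj (g : MulAut M)).toMonoidHom = A j := by
  have hv1' : (v : MulAut M) ≠ 1 := fun h => hv1 (Subtype.ext h)
  obtain ⟨a, ha, ha1⟩ := exists_ne S i
  have haL : a ∈ A false ⊔ A true := mem_L ha
  -- `v` stabilises `g (B i)`
  have h1 : MulAut.conj (g⁻¹ * v * g) • pnt A i = pnt A i := by
    calc MulAut.conj (g⁻¹ * v * g) • pnt A i = MulAut.conj g⁻¹ • MulAut.conj v • MulAut.conj g • pnt A i := by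
          rw [Cfsg.Agent.Omega.NoFF.Basic.conj_conj, Cfsg.Agent.Omega.NoFF.Basic.conj_conj, mul_assoc]
      _ = pnt A i := by
          rw [hn, Cfsg.Agent.Omega.NoFF.Basic.conj_conj, inv_mul_cancel, map_one, one_smul]
  have h2 : (A i).map (MulAut.conj ((g⁻¹ * v * g : ↥(A false ⊔ A true)) : MulAut M)).toMonoidHom = A i := by
    ext x
    constructor
    · intro hx
      have hxL : x ∈ A false ⊔ A true := by
        obtain ⟨c, hc, rfl⟩ := hx
        exact mul_mem (mul_mem (g⁻¹ * v * g).2 (mem_L hc)) (inv_mem (g⁻¹ * v * g).2)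
      have h3 : (⟨x, hxL⟩ : ↥(A false ⊔ A true)) ∈ MulAut.conj (g⁻¹ * v * g) • pnt A i := mem_conj_pnt.2 hx
      rw [h1] at h3
      exact h3
    · intro hx
      have h3 : (⟨x, mem_L hx⟩ : ↥(A false ⊔ A true)) ∈ pnt A i := hx
      rw [← h1, mem_conj_pnt] at h3
      exact h3
  have h4 := map_B S h2
  -- hence a fixed point
  have h5 : (B i).map (((g⁻¹ * v * g : ↥(A false ⊔ A true)) : MulAut M) : M ≃* M).toMonoidHom = B i := h4
  have hcomm : ∀ m ∈ B i, (g⁻¹ * v * g : MulAut M) m ∈ B i := by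
    intro m hm
    rw [← h5]
    exact ⟨m, hm, rfl⟩
  have hvv := S.Asq j v hv
  have hs : ((g : MulAut M)⁻¹ * v * g) * ((g : MulAut M)⁻¹ * v * g) = 1 := by
    calc ((g : MulAut M)⁻¹ * v * g) * ((g : MulAut M)⁻¹ * v * g) = (g : MulAut M)⁻¹ * (v * v) * g := by group
      _ = 1 := by rw [hvv]; group
  set s := (g : MulAut M)⁻¹ * v * g with hsdef
  obtain ⟨n, hn, hn1, hsn⟩ : ∃ n ∈ B i, n ≠ 1 ∧ s n = n := by
    obtain ⟨m, hm, hm1⟩ := (B i).bot_or_exists_ne_one.resolve_left (S.ne i)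
    by_cases h1 : s m = m
    · exact ⟨m, hm, hm1, h1⟩
    · refine ⟨m * s m, mul_mem hm (hcomm m hm), fun h2 => h1 ?_, ?_⟩
      · have h3 := eq_inv_of_mul_eq_one_right h2
        rw [h3, Spr.m_inv S]
      · rw [map_mul, ← MulAut.mul_apply, hs, MulAut.one_apply, S.comm]
  have h6 : (g : MulAut M) n ∈ B j := by
    refine S.free j v hv hv1' _ ?_
    have e : (v : MulAut M) * g = g * s := by rw [hsdef]; group
    rw [← MulAut.mul_apply, e, MulAut.mul_apply, hsn]
  have h7 : (B i).map ((g : MulAut M) : M ≃* M).toMonoidHom = B j := by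
    rcases S.spread i j g g.2 with h8 | h8
    · exact h8
    · exfalso
      have h9 : (g : MulAut M) n ∈ (B i).map ((g : MulAut M) : M ≃* M).toMonoidHom ⊓ B j := ⟨⟨n, hn, rfl⟩, h6⟩
      rw [h8] at h9
      apply hn1
      have h10 : (g : MulAut M) n = (g : MulAut M) 1 := by rw [map_one]; exact mem_bot.1 h9
      exact (g : MulAut M).injective h10
  exact S.stab i j g g.2 h7

/-- **the hypothesis of LEMMA SE** -/
theorem two [Finite M] (S : Spr B A) (h4 : 4 ≤ Nat.card (A false)) : Two (pnt A false) (pnt A true) where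
  tis :=
    { le := le_top
      sq := fun v hv => Subtype.ext (S.Asq false v hv)
      ne := by
        obtain ⟨a, ha, ha1⟩ := exists_ne S false
        intro h0
        apply ha1
        have h1 : (⟨a, mem_L ha⟩ : ↥(A false ⊔ A true)) ∈ pnt A false := ha
        rw [h0, mem_bot] at h1
        exact congrArg Subtype.val h1
      ti := by
        intro g _ v hv hv1 hn
        exact conj_pnt_eq (conj_eq_of_norm_pnt S hv hv1 (TI.conj_eq_of_norm hn)) }
  pt := by
    obtain ⟨a, ha, ha1⟩ := exists_ne S false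
    obtain ⟨b, hb, hb1⟩ := exists_ne S true
    obtain ⟨y, hy, e⟩ := Spr.exists_conj S (i := false) (j := true) (by decide) ha ha1 hb hb1
    have h1 : (B false).map (y : M ≃* M).toMonoidHom = B true := by
      refine Spr.map_eq S hb hb1 ha ha1 hy ?_
      rw [e]
    exact ⟨⟨y, hy⟩, mem_top _, (conj_pnt_eq (g := ⟨y, hy⟩) (S.stab false true y hy h1)).symm⟩
  ne := by
    intro h0
    obtain ⟨a, ha, ha1⟩ := exists_ne S false
    have h1 : (⟨a, mem_L ha⟩ : ↥(A false ⊔ A true)) ∈ pnt A false := ha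
    rw [h0] at h1
    apply Spr.B_ne S (i := false) (j := true) (by decide)
    have h2 : a ∈ A true := h1
    ext m
    rw [← Spr.fix_iff S ha ha1, ← Spr.fix_iff S h2 ha1]
  gen := by
    rw [eq_top_iff]
    rintro ⟨x, hx⟩ -
    have h1 : ((A false ⊔ A true).subgroupOf (A false ⊔ A true)) ≤ pnt A false ⊔ pnt A true := by
      rw [Subgroup.subgroupOf_sup le_sup_left le_sup_right]
    exact h1 hx
  card := by
    rw [Nat.card_congr (Subgroup.subgroupOfEquivOfLe (le_sup_left : A false ≤ A false ⊔ A true)).toEquiv]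
    exact h4

/-- **FIELD-1** -/
theorem spr_main [Finite M] (S : Spr B A) (h4 : 4 ≤ Nat.card (A false)) :
    O3 A ∨ (IsSz ↥(A false ⊔ A true) (Nat.card (A false)) ∧
      ∃ P : Sylow 2 ↥(A false ⊔ A true), ∀ x : ↥(A false ⊔ A true), (x : MulAut M) ∈ A false ↔ x ∈ P ∧ x * x = 1) := by
  have : Finite (MulAut M) := Finite.of_injective (fun a : MulAut M => (a : M → M)) DFunLike.coe_injective
  have hc : Nat.card (pnt A false) = Nat.card (A false) :=
    Nat.card_congr (Subgroup.subgroupOfEquivOfLe (le_sup_left : A false ≤ A false ⊔ A true)).toEquiv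
  rcases (two S h4).main' with h1 | ⟨h1, h2, h3⟩
  · left
    intro t ht ht1
    obtain ⟨u, hu, hu1, h3⟩ := h1 ⟨t, mem_L ht⟩ ht (fun h0 => ht1 (congrArg Subtype.val h0))
    exact ⟨u, hu, fun h0 => hu1 (Subtype.ext h0), congrArg Subtype.val h3⟩
  · right
    rw [hc] at h2
    exact ⟨⟨h1, h2⟩, h3⟩

/-- commuting elements of the two-point stabiliser -/
theorem spr_dcw [Finite M] (S : Spr B A) (h4 : 4 ≤ Nat.card (A false))
    {s y z : MulAut M} (hs : s ∈ A false ⊔ A true) (hss : s * s = 1)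
    (hsB : (B false).map (s : M ≃* M).toMonoidHom = B true) (hy : y ∈ A false ⊔ A true) (hz : z ∈ A false ⊔ A true)
    (hyB : ∀ i, (B i).map (y : M ≃* M).toMonoidHom = B i) (hzB : ∀ i, (B i).map (z : M ≃* M).toMonoidHom = B i)
    (hsy : s * y * s = y⁻¹) (hsz : s * z * s = z⁻¹) : y * z = z * y := by
  have : Finite (MulAut M) := Finite.of_injective (fun a : MulAut M => (a : M → M)) DFunLike.coe_injective
  have hsi : s⁻¹ = s := inv_eq_of_mul_eq_one_left hss
  have hn : ∀ (x : MulAut M) (hx : x ∈ A false ⊔ A true), (∀ i, (B i).map (x : M ≃* M).toMonoidHom = B i) →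
      ∀ i, (⟨x, hx⟩ : ↥(A false ⊔ A true)) ∈ normalizer (pnt A i : Set ↥(A false ⊔ A true)) := fun x hx hB i =>
    TI.norm_of_conj_eq (conj_pnt_eq (g := ⟨x, hx⟩) (S.stab i i x hx (hB i)))
  have hS := (two S h4).quot.strOut (two S h4).simple.1 (two S h4).simple.2
  have h1 := (two S h4).dcw hS (w := ⟨s, hs⟩) (y := ⟨y, hy⟩) (z := ⟨z, hz⟩) (Subtype.ext hss)
    (conj_pnt_eq (g := ⟨s, hs⟩) (S.stab false true s hs hsB)) (hn y hy hyB false) (hn y hy hyB true)
    (Subtype.ext (by show s * y * s⁻¹ = y⁻¹; rw [hsi, hsy])) (hn z hz hzB false) (hn z hz hzB true)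
    (Subtype.ext (by show s * z * s⁻¹ = z⁻¹; rw [hsi, hsz]))
  exact congrArg Subtype.val h1

/-- **FIELD-1: the SL₂ type or `Sz(q)`** -/
theorem sl2t_or_isSz [Finite M] (S : Spr B A) (h4 : 4 ≤ Nat.card (A false)) :
    SL2T B A ∨ IsSz ↥(A false ⊔ A true) (Nat.card (A false)) := by
  rcases spr_main S h4 with h1 | ⟨h1, -⟩
  · left
    refine ⟨fun t ht ht1 => ?_, fun s hs hss _ hsB y hy z hz hyB hzB hsy hsz =>
      spr_dcw S h4 hs hss hsB hy hz hyB hzB hsy hsz⟩
    obtain ⟨u, hu, -, h3⟩ := h1 t ht ht1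
    exact ⟨u, hu, h3⟩
  · exact Or.inr h1

end inst

end Cfsg.Agent.Omega.NO1.SE
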