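import Cfsg.Agent.Mrg.Omega.NOne.Flat.Off
import Cfsg.Agent.WeakTI.Simple
import Cfsg.Agent.WeakTI.ReduceMain
import Cfsg.Agent.SuzukiRankOne.Assembly
import Cfsg.Agent.ThreePrime.SzRel
import Cfsg.Agent.LieExceptional.CyclicSylow
import Cfsg.Agent.S1163
import Cfsg.Agent.ThreePrime.SzDataExists
import Cfsg.Agent.StrongEmb.Split
import Cfsg.Agent.S1119

section


/-!
# LEMMA SE (#16297, helper282; #15909 (F3)), first part: `L / Z(L)` is simple

`A`, `B` two different points of the finite group `L = ⟨A, B⟩`, `|A| ≥ 4`, an element `v ≠ 1` of a point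
normalises no other point. Then `A` is a weakly closed TI-subgroup, `A ∩ O₂(L) = 1`, `L / Z(L)` is nonabelian
simple, and `(L / Z(L), A Z(L) / Z(L))` satisfies the same hypothesis.
-/

set_option autoImplicit false

namespace Cfsg.Agent.Omega.NO1.SE

open Subgroup Cfsg Cfsg.Agent.Omega.NOne.Flat.TI Cfsg.Agent.WeakTI.Basic
open Cfsg.Agent.Lib.Cores Cfsg.Agent.WeakTI.ReduceTwo Cfsg.Agent.WeakTI.ReduceComponent
open scoped Pointwise

universe u

variable {L : Type u} [Group L]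

/-- the situation of LEMMA SE -/
structure Two (A B : Subgroup L) : Prop where
  tis : Tis (⊤ : Subgroup L) A
  pt : Pt (⊤ : Subgroup L) A B
  ne : A ≠ B
  gen : A ⊔ B = ⊤
  card : 4 ≤ Nat.card A

namespace Two

variable {A B : Subgroup L} (h : Two A B)
include h

theorem ptA : Pt (⊤ : Subgroup L) A A := Tis.pt_self

theorem comm {C : Subgroup L} (hC : Pt ⊤ A C) {a b : L} (ha : a ∈ C) (hb : b ∈ C) : a * b = b * a := by
  have h1 := h.tis.pt_sq hC ha
  have h2 := h.tis.pt_sq hC hb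
  have h3 := h.tis.pt_sq hC (C.mul_mem ha hb)
  calc a * b = a * (a * b * (a * b)) * b := by rw [h3, mul_one]
    _ = (a * a) * (b * a) * (b * b) := by group
    _ = b * a := by rw [h1, h2, one_mul, mul_one]

theorem wti : WTI A where
  comm _ ha _ hb := h.comm h.ptA ha hb
  sq := h.tis.sq
  ne := h.tis.ne
  ti g := by
    by_cases hi : MulAut.conj g • A ⊓ A = ⊥
    · exact Or.inr hi
    · obtain ⟨x, hx, hx1⟩ := (Subgroup.bot_or_exists_ne_one (MulAut.conj g • A ⊓ A)).resolve_left hi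
      exact Or.inl (h.tis.eq_of_mem (Tis.pt_conj h.ptA (mem_top g)) h.ptA hx.1 hx1 hx.2)
  wc g hg := by
    have hp : Pt ⊤ A (MulAut.conj g • A) := Tis.pt_conj h.ptA (mem_top g)
    obtain ⟨a, ha, ha1⟩ := h.tis.exists_ne hp
    exact h.tis.eq_of_norm hp h.ptA ha ha1 (hg ha)

theorem cjB : Cj A B := by
  obtain ⟨g, -, e⟩ := h.pt
  exact ⟨g, e⟩

theorem nc : normalClosure (A : Set L) = ⊤ := by
  rw [eq_top_iff, ← h.gen, sup_le_iff]
  have h1 : A ≤ normalClosure (A : Set L) := subset_normalClosure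
  refine ⟨h1, ?_⟩
  obtain ⟨g, -, e⟩ := h.pt
  rw [e]
  intro x hx
  rw [mem_cj] at hx
  have h2 := (normalClosure_normal (s := (A : Set L))).conj_mem _ (h1 hx) g
  have e2 : g * (g⁻¹ * x * g) * g⁻¹ = x := by group
  rwa [e2] at h2

theorem inf_pCore [Finite L] : A ⊓ pCore 2 L = ⊥ := by
  rw [Subgroup.eq_bot_iff_forall]
  rintro x ⟨hxA, hxO⟩
  by_contra hx
  have hB : WTI B := h.wti.of_cj h.cjB
  exact h.ne (h.tis.eq_of_norm h.ptA h.pt hxA hx (pCore_le_normalizer hB hxO))

theorem red [Finite L] : Red (A.map (QuotientGroup.mk' (center L))) :=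
  Cfsg.Agent.WeakTI.ReduceMain.red_quotient h.wti h.nc h.card h.inf_pCore

/-- **`L / Z(L)` is a nonabelian simple group.** -/
theorem simple [Finite L] : IsSimpleGroup (L ⧸ center L) ∧ ∃ a b : L ⧸ center L, a * b ≠ b * a :=
  Cfsg.Agent.WeakTI.Simple.isSimpleGroup_of_red h.red

/-- a central element of a point is trivial -/
theorem eq_one_of_center {C : Subgroup L} (hC : Pt ⊤ A C) {z : L} (hz : z ∈ C) (hz2 : z ∈ center L) : z = 1 := by
  by_contra hz1
  have hn : ∀ D : Subgroup L, z ∈ normalizer (D : Set L) := by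
    intro D
    rw [mem_normalizer_iff]
    intro x
    have e : z * x * z⁻¹ = x := by rw [← mem_center_iff.1 hz2 x]; group
    rw [e]
  exact h.ne ((h.tis.eq_of_norm hC h.ptA hz hz1 (hn A)).symm.trans (h.tis.eq_of_norm hC h.pt hz hz1 (hn B)))

/-- a normalises the point `C` modulo the centre implies that it normalises it -/
theorem norm_of_mod {C : Subgroup L} (hC : Pt ⊤ A C) {a : L}
    (hn : ∀ b ∈ C, ∃ c ∈ C, ∃ z ∈ center L, a * b * a⁻¹ = c * z) : a ∈ normalizer (C : Set L) := by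
  obtain ⟨b, hb, hb1⟩ := h.tis.exists_ne hC
  obtain ⟨c, hc, z, hz, e⟩ := hn b hb
  have hD : Pt ⊤ A (MulAut.conj a • C) := Tis.pt_conj hC (mem_top a)
  have h1 : c * z ∈ MulAut.conj a • C := by rw [← e]; exact conj_mem_cj hb
  have hcz : c * z ≠ 1 := by
    rw [← e]
    intro h0
    apply hb1
    have e2 : b = a⁻¹ * (a * b * a⁻¹) * a := by group
    rw [e2, h0]; group
  have hN : c * z ∈ normalizer (C : Set L) := by
    refine mul_mem (le_normalizer hc) ?_
    rw [mem_normalizer_iff]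
    intro x
    have e : z * x * z⁻¹ = x := by rw [← mem_center_iff.1 hz x]; group
    rw [e]
  exact norm_of_conj_eq (h.tis.eq_of_norm hD hC h1 hcz hN)

/-- image of a point in `L / Z(L)` -/
abbrev im (C : Subgroup L) : Subgroup (L ⧸ center L) := C.map (QuotientGroup.mk' (center L))

theorem mk_eq_one {C : Subgroup L} (hC : Pt ⊤ A C) {x : L} (hx : x ∈ C)
    (h1 : (QuotientGroup.mk' (center L)) x = 1) : x = 1 :=
  h.eq_one_of_center hC hx ((QuotientGroup.eq_one_iff x).1 h1)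

omit h in
theorem im_conj (C : Subgroup L) (g : L) :
    im (MulAut.conj g • C) = MulAut.conj (QuotientGroup.mk' (center L) g) • im C :=
  map_cj _ C g

theorem norm_of_im {C : Subgroup L} (hC : Pt ⊤ A C) {a : L}
    (hn : QuotientGroup.mk' (center L) a ∈ normalizer (im C : Set (L ⧸ center L))) :
    a ∈ normalizer (C : Set L) := by
  refine h.norm_of_mod hC fun b hb => ?_
  have h1 := (mem_normalizer_iff.1 hn (QuotientGroup.mk' (center L) b)).1 ⟨b, hb, rfl⟩
  obtain ⟨c, hc, e⟩ := h1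
  refine ⟨c, hc, c⁻¹ * (a * b * a⁻¹), ?_, by group⟩
  rw [← map_inv, ← map_mul, ← map_mul] at e
  exact QuotientGroup.eq.1 e

theorem im_inj {C D : Subgroup L} (hC : Pt ⊤ A C) (hD : Pt ⊤ A D) (e : im C = im D) : C = D := by
  obtain ⟨a, ha, ha1⟩ := h.tis.exists_ne hC
  refine h.tis.eq_of_norm hC hD ha ha1 (h.norm_of_im hD ?_)
  rw [← e]
  exact le_normalizer ⟨a, ha, rfl⟩

theorem card_im : Nat.card (im A) = Nat.card A := by
  have hinj : Function.Injective ((QuotientGroup.mk' (center L)).subgroupMap A) := by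
    rw [injective_iff_map_eq_one]
    intro x hx
    have h1 : (QuotientGroup.mk' (center L)) (x : L) = 1 := congrArg Subtype.val hx
    exact Subtype.ext (h.mk_eq_one h.ptA x.2 h1)
  exact (Nat.card_congr (Equiv.ofBijective _
    ⟨hinj, (QuotientGroup.mk' (center L)).subgroupMap_surjective A⟩)).symm

/-- **the hypothesis passes to `L / Z(L)`** -/
theorem quot : Two (im A) (im B) where
  tis :=
    { le := le_top
      sq := by
        rintro _ ⟨a, ha, rfl⟩
        rw [← map_mul, h.tis.sq a ha, map_one]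
      ne := by
        intro h0
        obtain ⟨a, ha, ha1⟩ := h.tis.exists_ne h.ptA
        apply ha1
        have h1 : QuotientGroup.mk' (center L) a ∈ im A := ⟨a, ha, rfl⟩
        rw [h0, mem_bot] at h1
        exact h.mk_eq_one h.ptA ha h1
      ti := by
        rintro g - _ ⟨a, ha, rfl⟩ ha1 hn
        obtain ⟨g, rfl⟩ := QuotientGroup.mk'_surjective (center L) g
        have ha2 : a ≠ 1 := by
          rintro rfl
          exact ha1 (map_one _)
        rw [← im_conj] at hn ⊢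
        have hp : Pt ⊤ A (MulAut.conj g • A) := Tis.pt_conj h.ptA (mem_top g)
        rw [← h.tis.eq_of_norm h.ptA hp ha ha2 (h.norm_of_im hp hn)] }
  pt := by
    obtain ⟨g, -, e⟩ := h.pt
    exact ⟨QuotientGroup.mk' (center L) g, mem_top _, by rw [e]; exact im_conj A g⟩
  ne e := h.ne (h.im_inj h.ptA h.pt e)
  gen := by
    rw [← Subgroup.map_sup, h.gen, ← MonoidHom.range_eq_map]
    exact MonoidHom.range_eq_top.2 (QuotientGroup.mk'_surjective _)
  card := by rw [h.card_im]; exact h.card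

end Two

end Cfsg.Agent.Omega.NO1.SE

end

section


/-!
# LEMMA SE (#16297), part two: the dichotomy of the structure equation `t s t = r⁻¹ t r`

In a simple rank-one set-up of `2`-rank at least two either `r = s`, hence `(t s)³ = 1`, or the group is a Suzuki group.
-/

set_option autoImplicit false

namespace Cfsg.Agent.Omega.NO1.SE.Core

open MulAction Subgroup Cfsg Cfsg.Agent Cfsg.Agent.SuzukiRankOne
  Cfsg.Agent.SuzukiRankOne.Assembly

variable {G Ω : Type*} [Group G] [Finite G] [MulAction G Ω] {a : Ω} {t : G} {Q : Subgroup G}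

theorem core [FaithfulSMul G Ω] [IsSimpleGroup G] (hS : IsRankOneSetup G Ω a t Q)
    (h2 : ∃ x y : G, x ≠ 1 ∧ y ≠ 1 ∧ x ≠ y ∧ x * x = 1 ∧ y * y = 1 ∧ x * y = y * x) :
    (∃ s ∈ Q, s ≠ 1 ∧ s * s = 1 ∧ (t * s) ^ 3 = 1) ∨
    (Nat.card Q = (Nat.card (involutionsIn (stabilizer G a : Set G)) + 1) ^ 2 ∧ Lie.IsoSuzuki G) := by
  obtain ⟨hcen, hclosed⟩ := S1130.result hS h2
  have hK := S1131.result hS h2
  obtain ⟨C, hC, hCc, -⟩ := id hK
  obtain ⟨⟨s, r⟩, ⟨hs, hr, hsr⟩, -⟩ := S1123.result hS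
  simp only at hs hr hsr
  have hQ2 := M1.isPGroup_Q hS h2
  by_cases hrs : r = s
  · left
    subst hrs
    refine ⟨r, hr, hs.2.1, hs.2.2, ?_⟩
    have hinv : r⁻¹ = r := inv_eq_of_mul_eq_one_left hs.2.2
    rw [hinv] at hsr
    have ht := hS.mul_self
    calc (t * r) ^ 3 = (t * r * t) * r * (t * r) := by simp only [pow_succ, pow_zero, one_mul, mul_assoc]
      _ = (r * t * r) * r * (t * r) := by rw [hsr]
      _ = r * t * (r * r) * t * r := by simp only [mul_assoc]
      _ = r * (t * t) * r := by rw [hs.2.2]; simp only [mul_one, mul_assoc]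
      _ = 1 := by rw [ht, mul_one, hs.2.2]
  · right
    have : Fact (Nat.Prime 2) := ⟨Nat.prime_two⟩
    have hnab : ¬ ∀ x ∈ Q, ∀ y ∈ Q, x * y = y * x := fun h =>
      hrs (AbelianCase.r_eq_s hS h2 C hC hQ2 h s r hs hr hsr)
    let S : Sylow 2 Q := default
    have hST : (S : Subgroup Q) = ⊤ :=
      (S.is_maximal' (hQ2.of_equiv Subgroup.topEquiv.symm) le_top).symm
    have hSuz : IsSuzukiTwoGroup ↥(S : Subgroup Q) := by
      rcases S1132.result hS h2 S with h | h
      · exfalso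
        apply hnab
        intro x hx y hy
        have hmem : ∀ x : Q, x ∈ (S : Subgroup Q) := fun x => by
          rw [hST]
          exact Subgroup.mem_top x
        have h3 := h.is_comm.comm (⟨⟨x, hx⟩, hmem _⟩ : (S : Subgroup Q)) ⟨⟨y, hy⟩, hmem _⟩
        exact congrArg (fun z : (S : Subgroup Q) => ((z : Q) : G)) h3
      · exact h
    obtain ⟨h4, hcard, n, hn⟩ := of_suzuki hS hcen S hST hSuz
    have hr2 : r * r = s := OrderFive.sq_eq hS hcen hclosed hs hr hsr hrs (h4 r hr)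
    have hcard' : Nat.card Q = (Nat.card (involutionsIn (stabilizer G a : Set G)) + 1) ^ 2 := by
      refine hcard.resolve_right ?_
      rw [hn]
      exact OrderFive.card_ne_cube hS hcen hclosed hC hs hr hsr hrs (h4 r hr) hn
    exact ⟨hcard', SzCase.isoSuzuki hS h2 hK hs hr hsr hr2 hcard'⟩

end Cfsg.Agent.Omega.NO1.SE.Core

end

section


/-!
# Central extensions of `Sz(q)`: tools for `Z(L) = 1`

* `comm_of_scale` : a family `ℓ : F → E`, additive modulo the centre and scaled by elements of `E`, commutes;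
* `pow_index_of_perfect`, `not_dvd_of_cyclic` : transfer;
* `isCyclic_of_isPGroup` : for `p` odd, `p`-subgroups of `Sz(q)` are cyclic.
-/

set_option autoImplicit false

namespace Cfsg.Agent.Omega.NO1.SE.Centre

open Subgroup Cfsg

/-! ### bilinear maps -/

section scale

variable {E F : Type*} [Group E] [Field F]

theorem comm_of_scale (htwo : (2 : F) = 0) (hex : ∃ t : F, t ≠ 0 ∧ t + 1 ≠ 0 ∧ t ^ 2 + t + 1 ≠ 0) (ℓ : F → E)
    (hadd : ∀ x y, ∃ z ∈ center E, ℓ x * ℓ y = ℓ (x + y) * z)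
    (hs : ∀ k : F, k ≠ 0 → ∃ δ : E, ∀ x, ∃ z ∈ center E, δ * ℓ x * δ⁻¹ = ℓ (k * x) * z) (x y : F) :
    ℓ x * ℓ y = ℓ y * ℓ x := by
  have hself : ∀ a : F, a + a = 0 := fun a => by linear_combination a * htwo
  -- the commutator map
  let b : F → F → E := fun x y => ℓ x * ℓ y * (ℓ x)⁻¹ * (ℓ y)⁻¹
  have hb : ∀ x y, b x y = ℓ x * ℓ y * (ℓ x)⁻¹ * (ℓ y)⁻¹ := fun _ _ => rfl
  have hcen : ∀ x y, b x y ∈ center E := by
    intro x y
    obtain ⟨z, hz, e⟩ := hadd x y
    obtain ⟨z', hz', e'⟩ := hadd y x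
    have h1 : b x y = ℓ (x + y) * (z * z'⁻¹) * (ℓ (x + y))⁻¹ := by
      have h2 : b x y = (ℓ x * ℓ y) * (ℓ y * ℓ x)⁻¹ := by rw [hb]; group
      rw [h2, e, e', add_comm y x]; group
    have h3 : z * z'⁻¹ ∈ center E := mul_mem hz (inv_mem hz')
    rw [h1, mem_center_iff.1 h3, mul_inv_cancel_right]
    exact h3
  have hc : ∀ x y (g : E), b x y * g = g * b x y := fun x y g => (mem_center_iff.1 (hcen x y) g).symm
  -- multiplicativity
  have hl : ∀ x x' y, b (x + x') y = b x y * b x' y := by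
    intro x x' y
    obtain ⟨z, hz, e⟩ := hadd x x'
    have hz' : ∀ g : E, z * g = g * z := fun g => (mem_center_iff.1 hz g).symm
    have h1 : ℓ (x + x') = ℓ x * ℓ x' * z⁻¹ := by rw [e, mul_inv_cancel_right]
    have hz'' : ∀ g : E, z⁻¹ * g = g * z⁻¹ := fun g => by
      rw [inv_mul_eq_iff_eq_mul, ← mul_assoc, hz', mul_inv_cancel_right]
    have h2 : b (x + x') y = ℓ x * b x' y * ℓ y * (ℓ x)⁻¹ * (ℓ y)⁻¹ := by
      rw [hb, hb, h1]
      calc ℓ x * ℓ x' * z⁻¹ * ℓ y * (ℓ x * ℓ x' * z⁻¹)⁻¹ * (ℓ y)⁻¹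
          = ℓ x * ℓ x' * (z⁻¹ * ℓ y) * z * (ℓ x')⁻¹ * (ℓ x)⁻¹ * (ℓ y)⁻¹ := by group
        _ = ℓ x * ℓ x' * (ℓ y * z⁻¹) * z * (ℓ x')⁻¹ * (ℓ x)⁻¹ * (ℓ y)⁻¹ := by rw [hz'']
        _ = ℓ x * (ℓ x' * ℓ y * (ℓ x')⁻¹ * (ℓ y)⁻¹) * ℓ y * (ℓ x)⁻¹ * (ℓ y)⁻¹ := by group
    rw [h2]
    calc ℓ x * b x' y * ℓ y * (ℓ x)⁻¹ * (ℓ y)⁻¹ = (b x' y * ℓ x) * ℓ y * (ℓ x)⁻¹ * (ℓ y)⁻¹ := by rw [hc]
      _ = b x' y * b x y := by rw [hb x y]; group
      _ = b x y * b x' y := hc _ _ _
  have hr : ∀ x y y', b x (y + y') = b x y * b x y' := by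
    intro x y y'
    have hinv : ∀ u v, b u v = (b v u)⁻¹ := fun u v => by rw [hb, hb]; group
    rw [hinv, hl, _root_.mul_inv_rev, ← hinv, ← hinv]
    exact hc _ _ _
  -- scaling
  have hsc : ∀ k, k ≠ 0 → ∀ x y, b (k * x) (k * y) = b x y := by
    intro k hk x y
    obtain ⟨δ, hδ⟩ := hs k hk
    obtain ⟨z, hz, e⟩ := hδ x
    obtain ⟨z', hz', e'⟩ := hδ y
    have h1 : ℓ (k * x) = δ * ℓ x * δ⁻¹ * z⁻¹ := by rw [e, mul_inv_cancel_right]
    have h2 : ℓ (k * y) = δ * ℓ y * δ⁻¹ * z'⁻¹ := by rw [e', mul_inv_cancel_right]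
    have hz2 : ∀ g : E, z⁻¹ * g = g * z⁻¹ := fun g => (mem_center_iff.1 (inv_mem hz) g).symm
    have hz3 : ∀ g : E, z'⁻¹ * g = g * z'⁻¹ := fun g => (mem_center_iff.1 (inv_mem hz') g).symm
    have h3 : b (k * x) (k * y) = δ * b x y * δ⁻¹ := by
      rw [hb (k * x), h1, h2]
      calc δ * ℓ x * δ⁻¹ * z⁻¹ * (δ * ℓ y * δ⁻¹ * z'⁻¹) * (δ * ℓ x * δ⁻¹ * z⁻¹)⁻¹ * (δ * ℓ y * δ⁻¹ * z'⁻¹)⁻¹
          = δ * ℓ x * δ⁻¹ * (z⁻¹ * (δ * ℓ y * δ⁻¹)) * (z'⁻¹ * z) * (δ * (ℓ x)⁻¹ * δ⁻¹) * z' * (δ * (ℓ y)⁻¹ * δ⁻¹) := by group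
        _ = δ * ℓ x * δ⁻¹ * ((δ * ℓ y * δ⁻¹) * z⁻¹) * (z'⁻¹ * z) * (δ * (ℓ x)⁻¹ * δ⁻¹) * z' * (δ * (ℓ y)⁻¹ * δ⁻¹) := by rw [hz2]
        _ = δ * ℓ x * ℓ y * δ⁻¹ * (z⁻¹ * (z'⁻¹ * z)) * (δ * (ℓ x)⁻¹ * δ⁻¹) * z' * (δ * (ℓ y)⁻¹ * δ⁻¹) := by group
        _ = δ * ℓ x * ℓ y * δ⁻¹ * (z'⁻¹ * (δ * (ℓ x)⁻¹ * δ⁻¹)) * z' * (δ * (ℓ y)⁻¹ * δ⁻¹) := by
            rw [hz2]; group
        _ = δ * ℓ x * ℓ y * δ⁻¹ * ((δ * (ℓ x)⁻¹ * δ⁻¹) * z'⁻¹) * z' * (δ * (ℓ y)⁻¹ * δ⁻¹) := by rw [hz3]
        _ = δ * (ℓ x * ℓ y * (ℓ x)⁻¹ * (ℓ y)⁻¹) * δ⁻¹ := by group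
    rw [h3, ← hc, mul_inv_cancel_right]
  -- `b 1 = 1`
  have h0 : ∀ y, b 0 y = 1 := by
    intro y
    have h1 := hl 0 0 y
    rw [add_zero] at h1
    exact (mul_eq_left.1 h1.symm)
  have hr0 : ∀ x, b x 0 = 1 := by
    intro x
    have h1 := hr x 0 0
    rw [add_zero] at h1
    exact (mul_eq_left.1 h1.symm)
  obtain ⟨t, ht0, ht1, ht⟩ := hex
  have hscale : ∀ x, x ≠ 0 → ∀ y, b x y = b 1 (x⁻¹ * y) := by
    intro x hx y
    have h1 := hsc x hx 1 (x⁻¹ * y)
    rw [mul_one, mul_inv_cancel_left₀ hx] at h1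
    exact h1
  have hsq : ∀ x y, b x y * b x y = 1 := by
    intro x y
    rw [← hr, hself, hr0]
  have h1 : ∀ y, b 1 y = 1 := by
    intro y
    set s : F := (t + 1)⁻¹ + t⁻¹ + 1 with hsdef
    have hs0 : s ≠ 0 := by
      have h2 : s = (t ^ 2 + t + 1) / (t * (t + 1)) := by
        rw [hsdef]
        field_simp
        linear_combination t * htwo
      rw [h2]
      exact div_ne_zero ht (mul_ne_zero ht0 ht1)
    have key : ∀ v, b 1 (s * v) = 1 := by
      intro v
      have h2 : s * v = (t + 1)⁻¹ * v + t⁻¹ * v + v := by rw [hsdef]; ring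
      have e1 : b t v * b 1 v * b t v = b 1 v := by rw [hc t v (b 1 v), mul_assoc, hsq, mul_one]
      rw [h2, hr, hr, ← hscale _ ht1, ← hscale _ ht0, hl, e1, hsq]
    have h3 := key (s⁻¹ * y)
    rwa [mul_inv_cancel_left₀ hs0] at h3
  have hall : b x y = 1 := by
    by_cases hx : x = 0
    · rw [hx, h0]
    · rw [hscale x hx, h1]
  have h2 : ℓ x * ℓ y * (ℓ x)⁻¹ * (ℓ y)⁻¹ = 1 := hall
  rw [mul_inv_eq_one, mul_inv_eq_iff_eq_mul] at h2
  exact h2

end scale

/-! ### transfer -/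

section transfer

variable {L : Type*} [Group L] [Finite L]

omit [Finite L] in
theorem hom_eq_one (hL : commutator L = ⊤) {E : Type*} [CommGroup E] (f : L →* E) (x : L) : f x = 1 := by
  have h1 : commutator L ≤ f.ker := Abelianization.commutator_subset_ker f
  exact h1 (by rw [hL]; exact mem_top x)

theorem pow_index_of_perfect (hL : commutator L = ⊤) {E : Type*} [CommGroup E] (H : Subgroup L) (ϕ : H →* E)
    {z : L} (hz : z ∈ center L) : ∃ h : z ^ H.index ∈ H, ϕ ⟨z ^ H.index, h⟩ = 1 := by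
  have key : ∀ (k : ℕ) (g₀ : L), g₀⁻¹ * z ^ k * g₀ ∈ H → g₀⁻¹ * z ^ k * g₀ = z ^ k := by
    intro k g₀ _
    have h1 : z ^ k ∈ center L := pow_mem hz k
    rw [mul_assoc, ← mem_center_iff.1 h1 g₀, inv_mul_cancel_left]
  refine ⟨MonoidHom.transfer_eq_pow_aux z key, ?_⟩
  rw [← MonoidHom.transfer_eq_pow ϕ z key]
  exact hom_eq_one hL _ z

/-- a finite perfect group whose central quotient has cyclic Sylow `p`-subgroups has `p'`-centre -/
theorem not_dvd_of_cyclic (hL : commutator L = ⊤) {p : ℕ} [hp : Fact p.Prime]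
    (hc : ∀ P : Subgroup (L ⧸ center L), IsPGroup p P → IsCyclic P) : ¬ p ∣ Nat.card (center L) := by
  intro hdvd
  obtain ⟨z₀, hz₀⟩ := exists_prime_orderOf_dvd_card' p hdvd
  obtain ⟨z, hz⟩ := z₀
  have hzo : orderOf z = p := by rw [← hz₀, Subgroup.orderOf_mk]
  have hzp : IsPGroup p (zpowers z) := by
    rw [IsPGroup.iff_card]
    exact ⟨1, by rw [Nat.card_zpowers, hzo, pow_one]⟩
  obtain ⟨P, hP⟩ := hzp.exists_le_sylow
  -- `P` is abelian
  let f : (P : Subgroup L) →* (P : Subgroup L).map (QuotientGroup.mk' (center L)) :=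
    (QuotientGroup.mk' (center L)).subgroupMap (P : Subgroup L)
  have hcyc : IsCyclic ((P : Subgroup L).map (QuotientGroup.mk' (center L))) := by
    apply hc
    exact P.isPGroup'.map _
  have hcomm : ∀ x y : (P : Subgroup L), x * y = y * x := by
    refine commutative_of_cyclic_center_quotient f ?_
    intro x hx
    have h1 : (QuotientGroup.mk' (center L)) (x : L) = 1 := congrArg Subtype.val hx
    have h2 : (x : L) ∈ center L := (QuotientGroup.eq_one_iff (x : L)).1 h1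
    rw [mem_center_iff]
    intro y
    exact Subtype.ext (mem_center_iff.1 h2 y)
  let _ : CommGroup (P : Subgroup L) := { (inferInstance : Group (P : Subgroup L)) with mul_comm := hcomm }
  obtain ⟨h1, h2⟩ := pow_index_of_perfect hL (P : Subgroup L) (MonoidHom.id (P : Subgroup L)) hz
  have h3 : z ^ (P : Subgroup L).index = 1 := congrArg Subtype.val h2
  have h4 : p ∣ (P : Subgroup L).index := by
    have h5 := orderOf_dvd_of_pow_eq_one h3
    rwa [hzo] at h5
  exact P.not_dvd_index h4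

end transfer

/-! ### odd Sylow subgroups of `Sz(q)` -/

section cyclic

open Cfsg.Agent.LieExceptional.CyclicSylow Cfsg.Agent.ThreePrime.SzRel

/-- If `p` is odd, the `p`-part of `q² (q - 1) (q² + 1)` is that of `q - 1` when `p ∣ q - 1`. -/
theorem fact_aux {p q : ℕ} [Fact p.Prime] (hp : p ≠ 2) (hq : 2 ≤ q) (hpq : p ∣ q - 1) :
    (q ^ 2 * (q - 1) * (q ^ 2 + 1)).factorization p = (q - 1).factorization p := by
  have hpp : p.Prime := Fact.out
  have h1 : ¬ p ∣ q := by
    intro h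
    have h2 : p ∣ q - (q - 1) := Nat.dvd_sub h hpq
    rw [show q - (q - 1) = 1 by omega] at h2
    exact hpp.one_lt.ne' (Nat.dvd_one.1 h2)
  have h2 : ¬ p ∣ q ^ 2 + 1 := by
    intro h
    obtain ⟨k, hk⟩ := hpq
    have h3 : q = p * k + 1 := by omega
    rw [h3] at h
    have h4 : (p * k + 1) ^ 2 + 1 = p * (p * k * k + 2 * k) + 2 := by ring
    rw [h4] at h
    have h5 : p ∣ 2 := (Nat.dvd_add_right (dvd_mul_right _ _)).1 h
    exact hp ((Nat.prime_dvd_prime_iff_eq hpp Nat.prime_two).1 h5)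
  have h3 : q - 1 ≠ 0 := by omega
  have h4 : q ^ 2 * (q ^ 2 + 1) ≠ 0 := by positivity
  rw [show q ^ 2 * (q - 1) * (q ^ 2 + 1) = q ^ 2 * (q ^ 2 + 1) * (q - 1) by ring,
    Nat.factorization_mul h4 h3, Finsupp.add_apply, Nat.factorization_eq_zero_of_not_dvd, zero_add]
  intro h
  rcases hpp.dvd_mul.1 h with h | h
  · exact h1 (hpp.dvd_of_dvd_pow h)
  · exact h2 h

/-- If the odd prime `p` divides `q² + 1` with `q` even, then it does not divide `q ^ i - 1` for `0 < i < 4`. -/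
theorem order_aux {p q : ℕ} [Fact p.Prime] (hp : p ≠ 2) (hq : 2 ≤ q) (hpq : p ∣ q ^ 2 + 1) :
    ∀ i, 0 < i → i < 4 → ¬ p ∣ q ^ i - 1 := by
  have hpp : p.Prime := Fact.out
  have hp2 : ¬ p ∣ 2 := fun h => hp ((Nat.prime_dvd_prime_iff_eq hpp Nat.prime_two).1 h)
  have key2 : ¬ p ∣ q ^ 2 - 1 := by
    intro h
    have h1 : p ∣ (q ^ 2 + 1) - (q ^ 2 - 1) := Nat.dvd_sub hpq h
    have h2 : 1 ≤ q ^ 2 := Nat.one_le_pow _ _ (by omega)
    rw [show (q ^ 2 + 1) - (q ^ 2 - 1) = 2 by omega] at h1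
    exact hp2 h1
  have key1 : ¬ p ∣ q - 1 := by
    intro h
    apply key2
    have : q - 1 ∣ q ^ 2 - 1 := by
      simpa using Nat.sub_dvd_pow_sub_pow q 1 2
    exact h.trans this
  intro i hi hi4
  interval_cases i
  · simpa using key1
  · exact key2
  · intro h
    have h1 : (q ^ 3 : ZMod p) = 1 := by
      have h2 : ((q ^ 3 - 1 : ℕ) : ZMod p) = 0 := (ZMod.natCast_eq_zero_iff _ _).2 h
      rw [Nat.cast_sub (Nat.one_le_pow _ _ (by omega))] at h2
      push_cast at h2
      exact sub_eq_zero.1 h2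
    have h2 : (q ^ 2 + 1 : ZMod p) = 0 := by
      have := (ZMod.natCast_eq_zero_iff (q ^ 2 + 1) p).2 hpq
      push_cast at this
      exact this
    have h3 : (q : ZMod p) = -1 := by
      linear_combination (q : ZMod p) * h2 - h1
    rw [h3] at h2
    have h4 : ((2 : ℕ) : ZMod p) = 0 := by
      push_cast
      linear_combination h2
    exact hp2 ((ZMod.natCast_eq_zero_iff _ _).1 h4)

/-- **`p`-subgroups of `Sz(q)`, `p` odd, are cyclic.** -/
theorem isCyclic_of_isPGroup {X : Type*} [Group X] [Finite X] (hX : Lie.IsoSuzuki X) {p : ℕ} [Fact p.Prime]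
    (hp : p ≠ 2) (P : Subgroup X) (hP : IsPGroup p P) : IsCyclic P := by
  have hpp : p.Prime := Fact.out
  obtain ⟨F, iF, iF', m, hm, hF, ⟨f⟩⟩ := hX
  have hcard : Nat.card X = (2 ^ (2 * m + 1)) ^ 2 * (2 ^ (2 * m + 1) - 1) * ((2 ^ (2 * m + 1)) ^ 2 + 1) := by
    rw [Nat.card_congr f.toEquiv]
    exact (Cfsg.Agent.S1163.result hm hF).1
  rw [← hF] at hcard
  let R : Cfsg.Agent.ThreePrime.SzRel.Rel X F := (ofGood (Cfsg.Agent.LieRecognition.SzMatrix.good hF)).map f.symm
  have hq : Nat.card F = Fintype.card F := Nat.card_eq_fintype_card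
  set q := Fintype.card F with hqdef
  have hq2 : 2 ≤ q := by
    rw [hF]
    calc 2 = 2 ^ 1 := rfl
      _ ≤ 2 ^ (2 * m + 1) := Nat.pow_le_pow_right (by norm_num) (by omega)
  have hpq : ¬ p ∣ q := by
    intro h
    rw [hF] at h
    exact hp ((Nat.prime_dvd_prime_iff_eq hpp Nat.prime_two).1 (hpp.dvd_of_dvd_pow h))
  by_cases h1 : p ∣ q - 1
  · let d : Fˣ →* X :=
      { toFun := R.d
        map_one' := R.d_one
        map_mul' := fun k l => (R.d_mul k l).symm }
    have hd : Function.Injective d := fun k l h => R.d_inj h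
    refine isCyclic_of_isPGroup_of_hom d hd ?_ hP
    rw [hcard, Nat.card_units, hq]
    exact fact_aux hp hq2 h1
  · by_cases h2 : p ∣ q ^ 2 + 1
    · refine isCyclic_of_isPGroup_of_hom_GL (F := F) (n := 4) (p := p) ?_ ?_ hP
        (((Cfsg.Lie.Sz F (2 ^ (m + 1))).subtype.comp f.toMonoidHom).comp (Subgroup.subtype _)) ?_
      · rw [hq]; exact hpq
      · rw [hq]; exact order_aux hp hq2 h2
      · rw [MonoidHom.coe_comp, MonoidHom.coe_comp]
        exact ((Subgroup.subtype_injective _).comp f.injective).comp (Subgroup.subtype_injective _)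
    · have h3 : ¬ p ∣ Nat.card X := by
        rw [hcard]
        intro h
        rcases hpp.dvd_mul.1 h with h | h
        · rcases hpp.dvd_mul.1 h with h | h
          · exact hpq (hpp.dvd_of_dvd_pow h)
          · exact h1 h
        · exact h2 h
      have h4 : Nat.card P = 1 := by
        obtain ⟨n, hn⟩ := IsPGroup.iff_card.1 hP
        rcases Nat.eq_zero_or_pos n with h0 | h0
        · rw [hn, h0, pow_zero]
        · exfalso
          apply h3
          refine (dvd_pow_self p h0.ne').trans ?_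
          rw [← hn]
          exact card_subgroup_dvd_card P
      have := (Nat.card_eq_one_iff_unique.1 h4).1
      infer_instance

end cyclic

end Cfsg.Agent.Omega.NO1.SE.Centre

end

section


/-!
# `L / Z(L) = Sz(q)` with a lift `A` of the centre of a Sylow 2-subgroup: `Z(L) = 1` (#16297 (f))

* `exists_rel_sylow` : coordinates adapted to a Sylow 2-subgroup;
* `Ext` : `A ∩ Z(L) = 1`, `A` maps onto `{u 0 b}`, an element normalising `A` modulo `Z(L)` normalises `A`;
* `Ext.le_commutator`, `Ext.not_two_dvd`, `Ext.center_eq_bot`.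
-/

set_option autoImplicit false

namespace Cfsg.Agent.Omega.NO1.SE

open Subgroup Cfsg Cfsg.Agent.Omega.NO1.SE.Centre
open Cfsg.Agent.ThreePrime

/-- coordinates adapted to a Sylow 2-subgroup -/
theorem exists_rel_sylow {X : Type*} [Group X] [Finite X] (h : Lie.IsoSuzuki X) (P : Sylow 2 X) :
    ∃ (F : Type) (_ : Field F) (_ : Fintype F) (m : ℕ), 1 ≤ m ∧ Fintype.card F = 2 ^ (2 * m + 1) ∧
      Nat.card X = Fintype.card F ^ 2 * (Fintype.card F ^ 2 + 1) * (Fintype.card F - 1) ∧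
      ∃ R : SzRel.Rel X F, R.T = (P : Subgroup X) := by
  have : Fact (Nat.Prime 2) := ⟨Nat.prime_two⟩
  obtain ⟨F, iF, iF', m, hm, hF, ⟨f⟩⟩ := h
  let R₀ : SzRel.Rel X F := (SzRel.ofGood (Cfsg.Agent.LieRecognition.SzMatrix.good hF)).map f.symm
  obtain ⟨P₀, hP₀⟩ := R₀.exists_sylow_eq hm hF
  obtain ⟨g, hg⟩ := MulAction.exists_smul_eq X P₀ P
  refine ⟨F, iF, iF', m, hm, hF, ?_, R₀.map (MulAut.conj g), ?_⟩
  · rw [Nat.card_congr f.toEquiv, (Cfsg.Agent.S1163.result hm hF).1, hF]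
    ring
  rw [← hg, Sylow.coe_subgroup_smul, hP₀]
  ext x
  rw [Subgroup.mem_pointwise_smul_iff_inv_smul_mem]
  constructor
  · rintro ⟨a, b, rfl⟩
    refine ⟨a, b, ?_⟩
    show (MulAut.conj g)⁻¹ (MulAut.conj g (R₀.u a b)) = _
    rw [MulAut.inv_apply_self]
  · rintro ⟨a, b, hab⟩
    refine ⟨a, b, ?_⟩
    show x = MulAut.conj g (R₀.u a b)
    rw [← hab]
    exact (MulAut.apply_inv_self X (MulAut.conj g) x).symm

/-- a lift of the centre of a Sylow 2-subgroup of `L / Z(L) = Sz(q)` -/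
structure Ext {L F : Type*} [Group L] [Field F] (A : Subgroup L) (R : SzRel.Rel (L ⧸ center L) F) : Prop where
  inf : ∀ a ∈ A, a ∈ center L → a = 1
  mem : ∀ x, x ∈ A.map (QuotientGroup.mk' (center L)) ↔ ∃ b, x = R.u 0 b
  norm : ∀ g : L, (∀ x ∈ A.map (QuotientGroup.mk' (center L)),
    QuotientGroup.mk' (center L) g * x * (QuotientGroup.mk' (center L) g)⁻¹ ∈ A.map (QuotientGroup.mk' (center L))) →
      g ∈ normalizer (A : Set L)

namespace Ext

variable {L F : Type*} [Group L] [Field F] {A : Subgroup L} {R : SzRel.Rel (L ⧸ center L) F}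
  (h : Ext A R)
include h

local notation "π" => QuotientGroup.mk' (center L)

theorem exists_mem (b : F) : ∃ a ∈ A, (QuotientGroup.mk' (center L)) a = R.u 0 b := by
  obtain ⟨a, ha, e⟩ := (h.mem (R.u 0 b)).2 ⟨b, rfl⟩
  exact ⟨a, ha, e⟩

omit h in
theorem center_of_eq {x y : L} (e : (QuotientGroup.mk' (center L)) x = (QuotientGroup.mk' (center L)) y) :
    x⁻¹ * y ∈ center L := QuotientGroup.eq.1 e

theorem eq_of_eq {a b : L} (ha : a ∈ A) (hb : b ∈ A)
    (e : (QuotientGroup.mk' (center L)) a = (QuotientGroup.mk' (center L)) b) : a = b := by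
  have h1 := h.inf _ (mul_mem (inv_mem ha) hb) (center_of_eq e)
  rwa [inv_mul_eq_one] at h1

theorem norm_d {g : L} {k : Fˣ} (hg : (QuotientGroup.mk' (center L)) g = R.d k) : g ∈ normalizer (A : Set L) := by
  apply h.norm
  intro x hx
  obtain ⟨b, rfl⟩ := (h.mem x).1 hx
  rw [hg, R.conj_d, zero_mul, zero_mul]
  exact (h.mem _).2 ⟨_, rfl⟩

theorem norm_u {g : L} {a b : F} (hg : (QuotientGroup.mk' (center L)) g = R.u a b) :
    g ∈ normalizer (A : Set L) := by
  apply h.norm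
  intro x hx
  obtain ⟨c, rfl⟩ := (h.mem x).1 hx
  rw [hg, R.conj_u]
  exact (h.mem _).2 ⟨_, rfl⟩

/-- `A = [A, H]` -/
theorem le_commutator (hne : ∃ j : Fˣ, j ≠ 1) : A ≤ commutator L := by
  intro a ha
  obtain ⟨b, hb⟩ := (h.mem _).1 ⟨a, ha, rfl⟩
  obtain ⟨j, hj⟩ := hne
  have hj1 : R.θ j + 1 ≠ 0 := by
    intro h0
    apply hj
    have h1 : R.θ j = 1 := by
      have h2 := R.add_self (1 : F)
      linear_combination h0 - h2
    have h2 : (j : F) = 1 := R.θ.injective (by rw [h1, map_one])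
    exact Units.ext h2
  obtain ⟨c, hc⟩ : ∃ c : F, c * R.θ j + c = b := ⟨b / (R.θ j + 1), by field_simp⟩
  obtain ⟨a', ha', e'⟩ := h.exists_mem c
  obtain ⟨g, hg⟩ := QuotientGroup.mk'_surjective (center L) (R.d j)
  have hgn := h.norm_d hg
  have h1 : g * a' * g⁻¹ * a'⁻¹ ∈ A := mul_mem ((mem_normalizer_iff.1 hgn a').1 ha') (inv_mem ha')
  have h2 : (QuotientGroup.mk' (center L)) (g * a' * g⁻¹ * a'⁻¹) = (QuotientGroup.mk' (center L)) a := by
    rw [map_mul, map_mul, map_mul, map_inv, map_inv, hg, e', R.conj_d, R.u_inv, R.u_mul]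
    show _ = (QuotientGroup.mk' (center L)) a
    rw [hb]
    simp only [zero_mul, add_zero]
    rw [hc]
  rw [← h.eq_of_eq h1 ha h2]
  exact commutator_mem_commutator (mem_top g) (mem_top a')

/-- `Z(L)` has odd order. -/
theorem not_two_dvd [Finite L] [Fintype F] {m : ℕ} (hm : 1 ≤ m) (hF : Fintype.card F = 2 ^ (2 * m + 1))
    (hL : commutator L = ⊤) : ¬ 2 ∣ Nat.card (center L) := by
  classical
  have : Fact (Nat.Prime 2) := ⟨Nat.prime_two⟩
  -- a scalar
  have hex : ∃ t : F, t ≠ 0 ∧ t + 1 ≠ 0 ∧ t ^ 2 + t + 1 ≠ 0 := by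
    by_contra hcon
    push_neg at hcon
    let p : Polynomial F := Polynomial.X * (Polynomial.X + 1) * (Polynomial.X ^ 2 + Polynomial.X + 1)
    have hp : p.Monic := by
      have h1 : (Polynomial.X + 1 : Polynomial F).Monic := by monicity!
      have h2 : (Polynomial.X ^ 2 + Polynomial.X + 1 : Polynomial F).Monic := by monicity!
      exact (Polynomial.monic_X.mul h1).mul h2
    have hd : p.natDegree ≤ 4 := by
      show (Polynomial.X * (Polynomial.X + 1) * (Polynomial.X ^ 2 + Polynomial.X + 1) : Polynomial F).natDegree ≤ 4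
      compute_degree
    have h0 : p = 0 := by
      refine Polynomial.eq_zero_of_natDegree_lt_card_of_eval_eq_zero p (f := id) Function.injective_id ?_ ?_
      · intro t
        show Polynomial.eval t (Polynomial.X * (Polynomial.X + 1) * (Polynomial.X ^ 2 + Polynomial.X + 1)) = 0
        simp only [Polynomial.eval_mul, Polynomial.eval_add, Polynomial.eval_pow, Polynomial.eval_X,
          Polynomial.eval_one]
        by_cases h1 : t = 0
        · rw [h1, zero_mul, zero_mul]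
        · by_cases h2 : t + 1 = 0
          · rw [h2, mul_zero, zero_mul]
          · rw [hcon t h1 h2, mul_zero]
      · rw [hF]
        refine lt_of_le_of_lt hd ?_
        calc 4 < 2 ^ 3 := by norm_num
          _ ≤ 2 ^ (2 * m + 1) := Nat.pow_le_pow_right (by norm_num) (by omega)
    exact hp.ne_zero h0
  -- `N(A) / A`
  set N := normalizer (A : Set L) with hN
  let A' : Subgroup N := A.subgroupOf N
  have hA'n : A'.Normal := inferInstance
  let q : N →* N ⧸ A' := QuotientGroup.mk' A'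
  have hqA : ∀ x : N, (x : L) ∈ A → q x = 1 := fun x hx => (QuotientGroup.eq_one_iff x).2 hx
  have hcN : ∀ z ∈ center L, z ∈ N := by
    intro z hz
    rw [hN, mem_normalizer_iff]
    intro x
    have e : z * x * z⁻¹ = x := by rw [← mem_center_iff.1 hz x]; group
    rw [e]
  have hqc : ∀ x : N, (x : L) ∈ center L → q x ∈ center (N ⧸ A') := by
    intro x hx
    rw [mem_center_iff]
    intro y
    obtain ⟨y, rfl⟩ := QuotientGroup.mk'_surjective A' y
    show q y * q x = q x * q y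
    rw [← map_mul, ← map_mul]
    congr 1
    exact Subtype.ext (mem_center_iff.1 hx y)
  have hlift : ∀ x : F, ∃ g : N, (QuotientGroup.mk' (center L)) (g : L) = R.u x 0 := by
    intro x
    obtain ⟨g, hg⟩ := QuotientGroup.mk'_surjective (center L) (R.u x 0)
    exact ⟨⟨g, h.norm_u hg⟩, hg⟩
  choose û hû using hlift
  let ℓ : F → N ⧸ A' := fun x => q (û x)
  -- an element of `N` over `u a b` is in `ℓ a * center`
  have key : ∀ (g : N) (a b : F), (QuotientGroup.mk' (center L)) (g : L) = R.u a b →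
      ∃ z ∈ center (N ⧸ A'), q g = ℓ a * z := by
    intro g a b hg
    obtain ⟨c, hc, ec⟩ := h.exists_mem b
    have hcN' : c ∈ N := le_normalizer hc
    have h1 : (QuotientGroup.mk' (center L)) ((û a : L) * c) = (QuotientGroup.mk' (center L)) (g : L) := by
      rw [map_mul, hû, ec, hg, R.u_mul]
      congr 1
      · ring
      · rw [map_zero]; ring
    have h2 := center_of_eq h1
    refine ⟨q (⟨c, hcN'⟩ * ((û a * ⟨c, hcN'⟩)⁻¹ * g)), ?_, ?_⟩
    · rw [map_mul, hqA ⟨c, hcN'⟩ hc, one_mul]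
      exact hqc _ h2
    · show q g = q (û a) * q _
      rw [← map_mul]
      congr 1
      group
  have hcomm : ∀ x y, ℓ x * ℓ y = ℓ y * ℓ x := by
    refine comm_of_scale R.two hex ℓ ?_ ?_
    · intro x y
      have h1 := key (û x * û y) (x + y) (x * R.θ y) (by
        show (QuotientGroup.mk' (center L)) ((û x : L) * (û y : L)) = _
        rw [map_mul, hû, hû, R.u_mul]
        congr 1
        ring)
      obtain ⟨z, hz, e⟩ := h1
      rw [map_mul] at e
      exact ⟨z, hz, e⟩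
    · intro k hk
      -- `j ↦ j² θ(j)⁻¹` is onto
      let th : Fˣ →* Fˣ := Units.map R.θ.toMonoidHom
      let χ : Fˣ →* Fˣ := powMonoidHom 2 * th⁻¹
      have hχ : ∀ j : Fˣ, ((χ j : Fˣ) : F) = (j : F) ^ 2 * (R.θ j)⁻¹ := by
        intro j
        show ((j ^ 2 * (th j)⁻¹ : Fˣ) : F) = _
        rw [Units.val_mul, Units.val_pow_eq_pow_val, Units.val_inv_eq_inv_val]
        rfl
      have hinj : Function.Injective χ := by
        rw [injective_iff_map_eq_one]
        intro j hj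
        have h1 : (j : F) ^ 2 * (R.θ j)⁻¹ = 1 := by rw [← hχ, hj]; rfl
        have h2 : R.d j * R.u 1 0 * (R.d j)⁻¹ = R.u 1 0 := by
          rw [R.conj_d, one_mul, h1, zero_mul]
        rcases R.fpf h2 with h3 | h3
        · exact h3
        · exact absurd h3.1 one_ne_zero
      obtain ⟨j, hj⟩ := (Finite.injective_iff_surjective.1 hinj) (Units.mk0 k hk)
      have hj' : (j : F) ^ 2 * (R.θ j)⁻¹ = k := by rw [← hχ, hj]; rfl
      obtain ⟨g, hg⟩ := QuotientGroup.mk'_surjective (center L) (R.d j)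
      let g' : N := ⟨g, h.norm_d hg⟩
      refine ⟨q g', fun x => ?_⟩
      have h1 := key (g' * û x * g'⁻¹) (k * x) 0 (by
        show (QuotientGroup.mk' (center L)) (g * (û x : L) * g⁻¹) = _
        rw [map_mul, map_mul, map_inv, hû, hg, R.conj_d, zero_mul]
        congr 1
        rw [← hj']
        ring)
      obtain ⟨z, hz, e⟩ := h1
      rw [map_mul, map_mul, map_inv] at e
      exact ⟨z, hz, e⟩
  -- the preimage of the Sylow group and its abelian quotient
  let S : Subgroup L := R.T.comap (QuotientGroup.mk' (center L))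
  have hSN : S ≤ N := by
    rintro x ⟨a, b, e⟩
    exact h.norm_u e
  let ϕ : S →* N ⧸ A' := q.comp (Subgroup.inclusion hSN)
  have hϕ : ∀ x y : S, ϕ x * ϕ y = ϕ y * ϕ x := by
    rintro ⟨x, a, b, ex⟩ ⟨y, c, d, ey⟩
    obtain ⟨z, hz, e1⟩ := key ⟨x, h.norm_u ex⟩ a b ex
    obtain ⟨z', hz', e2⟩ := key ⟨y, h.norm_u ey⟩ c d ey
    show q ⟨x, _⟩ * q ⟨y, _⟩ = q ⟨y, _⟩ * q ⟨x, _⟩
    rw [e1, e2]
    calc ℓ a * z * (ℓ c * z') = ℓ a * (z * ℓ c) * z' := by group
      _ = ℓ a * ℓ c * (z * z') := by rw [← mem_center_iff.1 hz (ℓ c)]; group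
      _ = ℓ c * ℓ a * (z' * z) := by rw [hcomm, mem_center_iff.1 hz' z]
      _ = ℓ c * (ℓ a * z') * z := by group
      _ = ℓ c * z' * (ℓ a * z) := by rw [mem_center_iff.1 hz' (ℓ a)]; group
  have hrc : ∀ x y : ϕ.range, x * y = y * x := by
    rintro ⟨_, x, rfl⟩ ⟨_, y, rfl⟩
    exact Subtype.ext (hϕ x y)
  let _ : CommGroup ϕ.range := { (inferInstance : Group ϕ.range) with mul_comm := hrc }
  intro h2
  obtain ⟨z₀, hz₀⟩ := exists_prime_orderOf_dvd_card' 2 h2
  obtain ⟨z, hz⟩ := z₀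
  have hzo : orderOf z = 2 := by rw [← hz₀, Subgroup.orderOf_mk]
  obtain ⟨h3, h4⟩ := pow_index_of_perfect hL S ϕ.rangeRestrict hz
  have h5 : q ⟨z ^ S.index, hSN h3⟩ = 1 := congrArg Subtype.val h4
  have h6 : z ^ S.index ∈ A := (QuotientGroup.eq_one_iff (⟨z ^ S.index, hSN h3⟩ : N)).1 h5
  have h7 := h.inf _ h6 (pow_mem hz _)
  have h8 := orderOf_dvd_of_pow_eq_one h7
  rw [hzo] at h8
  have h9 : S.index = R.T.index :=
    index_comap_of_surjective _ (QuotientGroup.mk'_surjective (center L))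
  obtain ⟨P, hP⟩ := R.exists_sylow_eq hm hF
  rw [h9, ← hP] at h8
  exact P.not_dvd_index h8

/-- **`Z(L) = 1`.** -/
theorem center_eq_bot [Finite L] [Fintype F] {m : ℕ} (hm : 1 ≤ m) (hF : Fintype.card F = 2 ^ (2 * m + 1))
    (hX : Lie.IsoSuzuki (L ⧸ center L)) (hnc : normalClosure (A : Set L) = ⊤) : center L = ⊥ := by
  have hL : commutator L = ⊤ := by
    rw [eq_top_iff, ← hnc]
    apply normalClosure_le_normal
    refine h.le_commutator ?_
    have h1 : 1 < Nat.card Fˣ := by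
      rw [Nat.card_units, Nat.card_eq_fintype_card, hF]
      have : 2 ^ 3 ≤ 2 ^ (2 * m + 1) := Nat.pow_le_pow_right (by norm_num) (by omega)
      omega
    have h2 : Nontrivial Fˣ := Finite.one_lt_card_iff_nontrivial.1 h1
    exact exists_ne 1
  rw [← Subgroup.card_eq_one]
  by_contra hne
  obtain ⟨p, hp, hdvd⟩ := Nat.exists_prime_and_dvd hne
  have : Fact p.Prime := ⟨hp⟩
  by_cases h2 : p = 2
  · subst h2
    exact h.not_two_dvd hm hF hL hdvd
  · exact not_dvd_of_cyclic hL (fun P hP => isCyclic_of_isPGroup hX h2 P hP) hdvd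

end Ext

end Cfsg.Agent.Omega.NO1.SE

end

section


/-!
# LEMMA SE (#16297), second part

`StrOut A` : the output of the first part for the simple group `X = L / Z(L)`: `N(A)` is strongly embedded and split by
a `2`-group `Q` with `A = {x ∈ Q | x² = 1}`.

* `Two.main_simple` : `X` simple: `(O3)`, or `X` is a Suzuki group and `A` the centre of a Sylow 2-subgroup;
* `Two.main` : the same for `L`, with `Z(L) = 1` in the Suzuki case and `|L| = q² (q² + 1) (q - 1)`, `q = |A|`;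
* `Two.dcw` : two elements normalising `A` and `B` and inverted by the same involution interchanging them commute.
-/

set_option autoImplicit false

namespace Cfsg.Agent.Omega.NO1.SE

open Subgroup Cfsg Cfsg.Agent.Omega.NOne.Flat.TI Cfsg.Agent.Omega.NoFF.Basic
open Cfsg.Agent.StrongEmb.Split
open scoped Pointwise

universe u

/-- the output of the first part for a simple group -/
def StrOut {X : Type u} [Group X] (A : Subgroup X) : Prop :=
  ∃ H Q : Subgroup X, IsStronglyEmbedded H ∧ IsSplit H Q ∧ IsPGroup 2 Q ∧ H = normalizer (A : Set X) ∧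
    ∀ x, (x ∈ A ↔ x ∈ Q ∧ x * x = 1)

namespace Two

section simple

variable {X : Type u} [Group X] [Finite X] {A B : Subgroup X}

theorem exists_comm (h : Two A B) :
    ∃ x y : X, x ≠ 1 ∧ y ≠ 1 ∧ x ≠ y ∧ x * x = 1 ∧ y * y = 1 ∧ x * y = y * x := by
  obtain ⟨x, hx, hx1⟩ := h.tis.exists_ne h.ptA
  have h1 : ∃ y ∈ A, y ≠ 1 ∧ y ≠ x := by
    by_contra hcon
    push Not at hcon
    have h2 : (A : Set X) ⊆ {1, x} := by
      intro y hy
      by_cases hy1 : y = 1
      · exact Or.inl hy1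
      · exact Or.inr (hcon y hy hy1)
    have h3 : Nat.card A ≤ 2 := by
      rw [← SetLike.coe_sort_coe, Nat.card_coe_set_eq]
      refine (Set.ncard_le_ncard h2 (Set.toFinite _)).trans ?_
      exact (Set.ncard_insert_le _ _).trans (by rw [Set.ncard_singleton])
    have := h.card
    omega
  obtain ⟨y, hy, hy1, hyx⟩ := h1
  exact ⟨x, y, hx1, hy1, Ne.symm hyx, h.tis.sq x hx, h.tis.sq y hy, h.comm h.ptA hx hy⟩

omit [Finite X] in
theorem faithful (h : Two A B) (hX : IsSimpleGroup X) : FaithfulSMul X (X ⧸ normalizer (A : Set X)) := by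
  apply faithfulSMul_of_core
  rcases IsSimpleGroup.eq_bot_or_eq_top_of_normal (normalizer (A : Set X)).normalCore inferInstance with h1 | h1
  · exact h1
  · exfalso
    obtain ⟨b, hb, hb1⟩ := h.tis.exists_ne h.pt
    have h2 : b ∈ (normalizer (A : Set X)).normalCore := by rw [h1]; exact mem_top b
    exact h.ne (h.tis.eq_of_norm h.pt h.ptA hb hb1 (Subgroup.normalCore_le _ h2)).symm

theorem setup (_ : Two A B) {Q : Subgroup X} (hH : IsStronglyEmbedded (normalizer (A : Set X)))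
    (hs : IsSplit (normalizer (A : Set X)) Q) {t : X} (ht : t ∉ normalizer (A : Set X)) (ht2 : t * t = 1) :
    IsRankOneSetup X (X ⧸ normalizer (A : Set X)) ((1 : X) : X ⧸ normalizer (A : Set X)) t Q := by
  have : Fact (Nat.Prime 2) := ⟨Nat.prime_two⟩
  refine setup_of_isSplit hH hs ht ?_
  refine orderOf_eq_prime (by rw [pow_two]; exact ht2) ?_
  rintro rfl
  exact ht (one_mem _)

/-- **The dichotomy for a simple group.** -/
theorem main_simple (h : Two A B) (hX : IsSimpleGroup X) (hS : StrOut A) :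
    (∀ t ∈ A, t ≠ 1 → ∃ u ∈ B, u ≠ 1 ∧ (t * u) ^ 3 = 1) ∨
    (Lie.IsoSuzuki X ∧ ∃ P : Sylow 2 X, ∀ x, x ∈ A ↔ x ∈ P ∧ x * x = 1) := by
  have : Fact (Nat.Prime 2) := ⟨Nat.prime_two⟩
  obtain ⟨H, Q, hH, hs, hQ, rfl, hA⟩ := hS
  have hf := h.faithful hX
  have h2 := h.exists_comm
  by_cases hcase : ∀ t ∈ A, t ≠ 1 → ∃ u ∈ B, u ≠ 1 ∧ (t * u) ^ 3 = 1
  · exact Or.inl hcase
  right
  push Not at hcase
  obtain ⟨t, ht, ht1, hno⟩ := hcase
  obtain ⟨g, -, rfl⟩ := h.pt
  have htn : g⁻¹ * t * g ∉ normalizer (A : Set X) := by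
    intro hn
    apply h.ne
    refine h.tis.eq_of_norm h.ptA h.pt ht ht1 (norm_of_conj_eq ?_)
    have h3 := conj_eq_of_norm hn
    calc MulAut.conj t • MulAut.conj g • A = MulAut.conj g • MulAut.conj (g⁻¹ * t * g) • A := by
          rw [conj_conj, conj_conj]
          congr 2
          group
      _ = MulAut.conj g • A := by rw [h3]
  have hR := h.setup hH hs htn (by
    calc g⁻¹ * t * g * (g⁻¹ * t * g) = g⁻¹ * (t * t) * g := by group
      _ = 1 := by rw [h.tis.sq t ht]; group)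
  have hXs := hX
  rcases Core.core hR h2 with ⟨s, hsQ, hs1, hss, h3⟩ | ⟨-, hSz⟩
  · exfalso
    refine hno (g * s * g⁻¹) ?_ ?_ ?_
    · rw [mem_conj]
      have e : g⁻¹ * (g * s * g⁻¹) * g = s := by group
      rw [e]
      exact (hA s).2 ⟨hsQ, hss⟩
    · intro h0
      apply hs1
      calc s = g⁻¹ * (g * s * g⁻¹) * g := by group
        _ = 1 := by rw [h0]; group
    · have e : t * (g * s * g⁻¹) = g * (g⁻¹ * t * g * s) * g⁻¹ := by group
      rw [e, conj_pow, h3, mul_one, mul_inv_cancel]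
  · refine ⟨hSz, ?_⟩
    obtain ⟨P, hP⟩ := (Cfsg.Agent.S1119.result hR).2.2.2.1
    have hPQ : (P : Subgroup X) = Q := (P.is_maximal' hQ hP).symm
    refine ⟨P, fun x => ?_⟩
    rw [hA x]
    show _ ↔ x ∈ (P : Subgroup X) ∧ _
    rw [hPQ]

/-- in a simple group the elements of the two-point stabiliser inverted by `w` lie in a cyclic group -/
theorem cyc_simple (h : Two A B) (hX : IsSimpleGroup X) (hS : StrOut A) {w : X} (hw : w * w = 1)
    (hwB : MulAut.conj w • A = B) : ∃ C : Subgroup X, IsCyclic C ∧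
      ∀ y, y ∈ normalizer (A : Set X) → y ∈ normalizer (B : Set X) → w * y * w⁻¹ = y⁻¹ → y ∈ C := by
  obtain ⟨H, Q, hH, hs, hQ, rfl, hA⟩ := hS
  have hf := h.faithful hX
  have h2 := h.exists_comm
  have hwn : w ∉ normalizer (A : Set X) := fun hn => h.ne (by rw [← hwB, conj_eq_of_norm hn])
  have hR := h.setup hH hs hwn hw
  obtain ⟨C, hC, hCc, -⟩ := Cfsg.Agent.S1131.result hR h2
  refine ⟨C, hCc, fun y hyA hyB hy => ?_⟩
  have h3 : y ∈ (C : Set X) := by
    rw [hC]
    refine ⟨⟨?_, ?_⟩, hy⟩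
    · refine MulAction.mem_stabilizer_iff.2 ?_
      show ((y * 1 : X) : X ⧸ normalizer (A : Set X)) = _
      rw [eq_comm, QuotientGroup.eq, mul_one, inv_one, one_mul]
      exact hyA
    · refine MulAction.mem_stabilizer_iff.2 ?_
      show ((y * (w * 1) : X) : X ⧸ normalizer (A : Set X)) = ((w * 1 : X) : X ⧸ normalizer (A : Set X))
      rw [eq_comm, QuotientGroup.eq, mul_one]
      refine norm_of_conj_eq ?_
      have h4 := conj_eq_of_norm hyB
      rw [← hwB, conj_conj] at h4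
      calc MulAut.conj (w⁻¹ * (y * w)) • A = MulAut.conj w⁻¹ • MulAut.conj (y * w) • A := by rw [conj_conj]
        _ = MulAut.conj w⁻¹ • MulAut.conj w • A := by rw [h4]
        _ = A := by rw [conj_conj, inv_mul_cancel, map_one, one_smul]
  exact h3

end simple

section general

variable {L : Type u} [Group L] [Finite L] {A B : Subgroup L}

/-- **LEMMA SE.** -/
theorem main (h : Two A B) (hS : StrOut (im A)) :
    (∀ t ∈ A, t ≠ 1 → ∃ u ∈ B, u ≠ 1 ∧ (t * u) ^ 3 = 1) ∨
    (Lie.IsoSuzuki L ∧ Nat.card L = Nat.card A ^ 2 * (Nat.card A ^ 2 + 1) * (Nat.card A - 1) ∧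
      ∃ P : Sylow 2 L, ∀ x, x ∈ A ↔ x ∈ P ∧ x * x = 1) := by
  rcases h.quot.main_simple h.simple.1 hS with h1 | ⟨hSz, P, hP⟩
  · left
    intro t ht ht1
    obtain ⟨_, ⟨u, hu, rfl⟩, hu1, h3⟩ := h1 (QuotientGroup.mk' (center L) t) ⟨t, ht, rfl⟩
      (fun h0 => ht1 (h.mk_eq_one h.ptA ht h0))
    have hune : u ≠ 1 := by
      rintro rfl
      exact hu1 (map_one _)
    refine ⟨u, hu, hune, ?_⟩
    rw [← map_mul, ← map_pow] at h3
    have hc : (t * u) ^ 3 ∈ center L := (QuotientGroup.eq_one_iff _).1 h3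
    -- `c := (t u)³` is central and inverted by `t`
    have ht2 := h.tis.sq t ht
    have hu2 := h.tis.pt_sq h.pt hu
    have hti : t⁻¹ = t := inv_eq_of_mul_eq_one_left ht2
    have hui : u⁻¹ = u := inv_eq_of_mul_eq_one_left hu2
    have h4 : t * (t * u) ^ 3 * t⁻¹ = ((t * u) ^ 3)⁻¹ := by
      rw [← conj_pow, ← inv_pow]
      congr 1
      rw [_root_.mul_inv_rev, hti, hui, ← mul_assoc, ht2, one_mul]
    have h5 : (t * u) ^ 3 * (t * u) ^ 3 = 1 := by
      rw [mem_center_iff.1 hc t, mul_inv_cancel_right] at h4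
      nth_rewrite 1 [h4]
      exact inv_mul_cancel _
    have hodd := h.tis.odd h.ptA h.pt h.ne ht ht1 hu hune
    have h6 : orderOf (t * u) ∣ 6 := orderOf_dvd_of_pow_eq_one (by
      rw [show (6 : ℕ) = 3 + 3 by norm_num, pow_add, h5])
    have h7 : orderOf (t * u) ∣ 3 := by
      have h8 : Nat.Coprime (orderOf (t * u)) 2 := Nat.coprime_two_right.2 hodd
      exact h8.dvd_of_dvd_mul_left (by rw [show (2 * 3 : ℕ) = 6 by norm_num]; exact h6)
    exact orderOf_dvd_iff_pow_eq_one.1 h7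
  · right
    obtain ⟨F, iF, iF', m, hm, hF, hcX, R, hR⟩ := exists_rel_sylow hSz P
    have hmem : ∀ x, x ∈ A.map (QuotientGroup.mk' (center L)) ↔ ∃ b, x = R.u 0 b := by
      intro x
      show x ∈ im A ↔ _
      rw [hP x]
      show x ∈ (P : Subgroup (L ⧸ center L)) ∧ _ ↔ _
      rw [← hR]
      constructor
      · rintro ⟨⟨a, b, rfl⟩, h1⟩
        rw [R.u_sq_iff] at h1
        exact ⟨b, by rw [h1]⟩
      · rintro ⟨b, rfl⟩
        exact ⟨R.u_mem _ _, (R.u_sq_iff 0 b).2 rfl⟩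
    have hE : Ext A R :=
      { inf := fun a ha hz => h.eq_one_of_center h.ptA ha hz
        mem := hmem
        norm := by
          intro g hg
          refine h.norm_of_im h.ptA ?_
          refine norm_of_conj_eq ?_
          have h1 : MulAut.conj (QuotientGroup.mk' (center L) g) • im A ≤ im A := by
            intro x hx
            rw [mem_conj] at hx
            have h2 := hg _ hx
            have e : QuotientGroup.mk' (center L) g * ((QuotientGroup.mk' (center L) g)⁻¹ * x *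
                QuotientGroup.mk' (center L) g) * (QuotientGroup.mk' (center L) g)⁻¹ = x := by group
            rwa [e] at h2
          refine Subgroup.eq_of_le_of_card_ge h1 (le_of_eq ?_)
          exact Nat.card_congr (Subgroup.equivSMul (MulAut.conj (QuotientGroup.mk' (center L) g)) (im A)).toEquiv }
    have hZ : center L = ⊥ := hE.center_eq_bot hm hF hSz h.nc
    have hbij : Function.Bijective (QuotientGroup.mk' (center L)) := by
      refine ⟨?_, QuotientGroup.mk'_surjective _⟩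
      rw [← MonoidHom.ker_eq_bot_iff, QuotientGroup.ker_mk', hZ]
    let f : L ≃* L ⧸ center L := MulEquiv.ofBijective (QuotientGroup.mk' (center L)) hbij
    have hfa : ∀ x, f x = QuotientGroup.mk' (center L) x := fun _ => rfl
    -- the order
    have hcA : Nat.card A = Fintype.card F := by
      rw [← h.card_im, ← Nat.card_eq_fintype_card]
      refine (Nat.card_congr (Equiv.ofBijective (fun b : F => (⟨R.u 0 b, (hmem _).2 ⟨b, rfl⟩⟩ : im A)) ⟨?_, ?_⟩)).symm
      · intro b c hbc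
        exact (R.u_inj (congrArg Subtype.val hbc)).2
      · rintro ⟨x, hx⟩
        obtain ⟨b, rfl⟩ := (hmem x).1 hx
        exact ⟨b, rfl⟩
    have hcL : Nat.card L = Nat.card A ^ 2 * (Nat.card A ^ 2 + 1) * (Nat.card A - 1) := by
      rw [Nat.card_congr f.toEquiv, hcX, hcA]
    obtain ⟨P', hP'⟩ : ∃ P' : Sylow 2 L, ∀ x, x ∈ P' ↔ f x ∈ P :=
      ⟨P.comapOfInjective f.toMonoidHom f.injective (fun x _ => f.surjective x), fun x => Iff.rfl⟩
    refine ⟨?_, hcL, P', fun x => ?_⟩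
    · obtain ⟨F', iF1, iF1', m', hm', hF', ⟨f'⟩⟩ := hSz
      exact ⟨F', iF1, iF1', m', hm', hF', ⟨f.trans f'⟩⟩
    · rw [hP' x, hfa]
      have h1 : x ∈ A ↔ QuotientGroup.mk' (center L) x ∈ im A := by
        constructor
        · intro hx; exact ⟨x, hx, rfl⟩
        · rintro ⟨a, ha, e⟩
          rwa [← hbij.1 e]
      rw [h1, hP]
      refine and_congr_right fun _ => ?_
      rw [← map_mul]
      constructor
      · intro h2
        exact hbij.1 (by rw [h2, map_one])
      · intro h2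
        rw [h2, map_one]

/-- two elements normalising `A` and `B` and inverted by the same involution interchanging them commute -/
theorem dcw (h : Two A B) (hS : StrOut (im A)) {w : L} (hw : w * w = 1) (hwB : MulAut.conj w • A = B) {y z : L}
    (hyA : y ∈ normalizer (A : Set L)) (hyB : y ∈ normalizer (B : Set L)) (hy : w * y * w⁻¹ = y⁻¹)
    (hzA : z ∈ normalizer (A : Set L)) (hzB : z ∈ normalizer (B : Set L)) (hz : w * z * w⁻¹ = z⁻¹) :
    y * z = z * y := by
  set π := QuotientGroup.mk' (center L) with hπ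
  have hn : ∀ {C : Subgroup L} {x : L}, x ∈ normalizer (C : Set L) → π x ∈ normalizer (im C : Set (L ⧸ center L)) := by
    intro C x hx
    refine norm_of_conj_eq ?_
    rw [← im_conj, conj_eq_of_norm hx]
  obtain ⟨C, hCc, hC⟩ := h.quot.cyc_simple h.simple.1 hS (w := π w) (by rw [← map_mul, hw, map_one])
    (by rw [← im_conj, hwB])
  have h1 : y ∈ C.comap π := hC _ (hn hyA) (hn hyB) (by rw [← map_inv, ← map_mul, ← map_mul, hy, map_inv])
  have h2 : z ∈ C.comap π := hC _ (hn hzA) (hn hzB) (by rw [← map_inv, ← map_mul, ← map_mul, hz, map_inv])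
  let ϕ : C.comap π →* C := π.subgroupComap C
  have h3 : ∀ a b : C.comap π, a * b = b * a := by
    refine commutative_of_cyclic_center_quotient ϕ ?_
    intro x hx
    have h4 : π (x : L) = 1 := congrArg Subtype.val hx
    have h5 : (x : L) ∈ center L := (QuotientGroup.eq_one_iff (x : L)).1 h4
    rw [mem_center_iff]
    intro y
    exact Subtype.ext (mem_center_iff.1 h5 y)
  exact congrArg Subtype.val (h3 ⟨y, h1⟩ ⟨z, h2⟩)

end general

end Two

end Cfsg.Agent.Omega.NO1.SE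

end
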