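import Cfsg.Agent.Mrg.Omega.NO1.SE.Red
import Cfsg.Agent.StrongEmb.Strong
import Cfsg.Agent.S1174


/-!
# LEMMA SE (#16297): `N(A)` is strongly embedded

`Two.strOut` : `X` simple nonabelian with `Two A B`: `N(A)` is strongly embedded and split by its Sylow 2-subgroup
`Q`, and `A = {x ∈ Q | x² = 1}`.
-/

set_option autoImplicit false

namespace Cfsg.Agent.Omega.NO1.SE

open Subgroup Cfsg Cfsg.Agent.Omega.NOne.Flat.TI
open Cfsg.Agent.TwoFusion.StronglyEmbeddedBasic
open scoped Pointwise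

universe u

variable {X : Type u} [Group X] [Finite X] {A B : Subgroup X}

namespace Two

omit [Finite X] in
theorem not_mem (h : Two A B) : ∃ b ∈ B, b ≠ 1 ∧ b ∉ normalizer (A : Set X) := by
  obtain ⟨b, hb, hb1⟩ := h.tis.exists_ne h.pt
  exact ⟨b, hb, hb1, fun hn => h.ne (h.tis.eq_of_norm h.pt h.ptA hb hb1 hn).symm⟩

/-- `A` is strongly closed in every 2-subgroup containing it -/
theorem strongly_closed (h : Two A B) {T : Subgroup X} (hT : IsPGroup 2 T) (hA : A ≤ T) : IsStronglyClosed A T := by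
  refine ⟨hA, fun x hx g hg => ?_⟩
  by_cases hx1 : x = 1
  · rw [hx1, mul_one, mul_inv_cancel]; exact one_mem _
  have h1 : g * x * g⁻¹ ∈ normalizer (A : Set X) := h.wti.le_normalizer_of_isPGroup hT hA hg
  have h2 : g * x * g⁻¹ ∈ MulAut.conj g • A := Cfsg.Agent.WeakTI.Basic.conj_mem_cj hx
  have h3 : g * x * g⁻¹ ≠ 1 := by
    intro h0
    apply hx1
    calc x = g⁻¹ * (g * x * g⁻¹) * g := by group
      _ = 1 := by rw [h0]; group
  have h4 := h.tis.eq_of_norm (Tis.pt_conj h.ptA (mem_top g)) h.ptA h2 h3 h1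
  rwa [h4] at h2

theorem exists_se (h : Two A B) (hX : IsSimpleGroup X) : ∃ H : Subgroup X, IsStronglyEmbedded H := by
  have : Fact (Nat.Prime 2) := ⟨Nat.prime_two⟩
  obtain ⟨S, hS⟩ := h.wti.isPGroup.exists_le_sylow
  refine Cfsg.Agent.S1174.result S A h.tis.ne (h.strongly_closed S.isPGroup' hS) ?_
  intro htop
  obtain ⟨b, -, -, hb⟩ := h.not_mem
  apply hb
  have h1 : (⨆ t : {t : X // t ∈ A ∧ orderOf t = 2}, Subgroup.centralizer ({(t : X)} : Set X)) ≤
      normalizer (A : Set X) := by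
    refine iSup_le ?_
    rintro ⟨t, ht, ht2⟩
    refine h.wti.centralizer_le_normalizer ht ?_
    rintro rfl
    rw [orderOf_one] at ht2
    exact absurd ht2 (by norm_num)
  rw [htop] at h1
  exact h1 (mem_top b)

/-- a strongly embedded subgroup containing `A` contains `N(A)` -/
theorem normalizer_le_of_se (h : Two A B) {H : Subgroup X} (hH : IsStronglyEmbedded H) (hA : A ≤ H) :
    normalizer (A : Set X) ≤ H := by
  intro g hg
  obtain ⟨a, ha, ha1⟩ := h.tis.exists_ne h.ptA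
  exact mem_of_conj_mem hH (hA ha) (orderOf_eq_two_of_mul_self (h.tis.sq a ha) ha1)
    (hA ((mem_normalizer_iff.1 hg a).1 ha))

omit [Finite X] in
theorem _root_.Cfsg.Agent.Omega.NO1.SE.se_conj {H : Subgroup X} (hH : IsStronglyEmbedded H) (g : X) :
    IsStronglyEmbedded (MulAut.conj g • H) := by
  refine ⟨?_, ?_, ?_⟩
  · intro h0
    apply hH.1
    rw [eq_top_iff]
    intro x _
    have h1 : g * x * g⁻¹ ∈ MulAut.conj g • H := by rw [h0]; exact mem_top _
    rw [Cfsg.Agent.WeakTI.Basic.mem_cj] at h1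
    have e : g⁻¹ * (g * x * g⁻¹) * g = x := by group
    rwa [e] at h1
  · have h1 : Nat.card ↥(MulAut.conj g • H) = Nat.card H :=
      Nat.card_congr (Subgroup.equivSMul (MulAut.conj g) H).symm.toEquiv
    rw [h1]
    exact hH.2.1
  · intro x hx
    have h1 : g⁻¹ * x * g ∉ H := fun h => hx (Cfsg.Agent.WeakTI.Basic.mem_cj.2 h)
    have h2 := hH.2.2 _ h1
    have h3 : MulAut.conj g • H ⊓ (MulAut.conj g • H).map (MulAut.conj x).toMonoidHom =
        MulAut.conj g • (H ⊓ H.map (MulAut.conj (g⁻¹ * x * g)).toMonoidHom) := by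
      rw [← Cfsg.Agent.WeakTI.Basic.cj_eq_map, ← Cfsg.Agent.WeakTI.Basic.cj_eq_map]
      ext y
      simp only [mem_inf, Cfsg.Agent.WeakTI.Basic.mem_cj]
      have e : g⁻¹ * (x⁻¹ * y * x) * g = (g⁻¹ * x * g)⁻¹ * (g⁻¹ * y * g) * (g⁻¹ * x * g) := by group
      rw [e]
    rw [h3, Nat.card_congr (Subgroup.equivSMul (MulAut.conj g) (H ⊓ H.map (MulAut.conj (g⁻¹ * x * g)).toMonoidHom)).symm.toEquiv]
    exact h2

/-- **`StrOut`.** -/
theorem strOut (h : Two A B) (hX : IsSimpleGroup X) (hna : ∃ a b : X, a * b ≠ b * a) : StrOut A := by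
  have : Fact (Nat.Prime 2) := ⟨Nat.prime_two⟩
  -- a strongly embedded subgroup containing `A`
  obtain ⟨H, hH, hAH⟩ : ∃ H : Subgroup X, IsStronglyEmbedded H ∧ A ≤ H := by
    obtain ⟨H, hH⟩ := h.exists_se hX
    obtain ⟨a, ha, ha1⟩ := h.tis.exists_ne h.ptA
    obtain ⟨t, ht, ht2⟩ := exists_involution hH
    obtain ⟨g, hg⟩ := isConj_iff.1 (isConj_of_involutions hH t a ht2
      (orderOf_eq_two_of_mul_self (h.tis.sq a ha) ha1))
    have hH' := se_conj hH g
    refine ⟨_, hH', fun x hx => ?_⟩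
    have haH : a ∈ MulAut.conj g • H := by rw [← hg]; exact Cfsg.Agent.WeakTI.Basic.conj_mem_cj ht
    exact mem_of_commute hH' haH (orderOf_eq_two_of_mul_self (h.tis.sq a ha) ha1) (h.comm h.ptA hx ha)
  obtain ⟨Q, hs, hQ⟩ := Cfsg.Agent.StrongEmb.Strong.exists_isSplit hna H hH
  -- the rank one set-up
  obtain ⟨t, ht, ht2⟩ := exists_involution_notMem hH
  have hR := Cfsg.Agent.StrongEmb.Split.setup_of_isSplit hH hs ht ht2
  obtain ⟨P, hP⟩ := (Cfsg.Agent.S1119.result hR).2.2.2.1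
  have hPQ : (P : Subgroup X) = Q := (P.is_maximal' hQ hP).symm
  -- every 2-subgroup of `H` is in `Q`
  have hin : ∀ x ∈ H, x * x = 1 → x ∈ Q := by
    intro x hx hxx
    have hz : IsPGroup 2 (zpowers x) := by
      intro y
      obtain ⟨y, hy⟩ := y
      obtain ⟨k, rfl⟩ := hy
      refine ⟨1, Subtype.ext ?_⟩
      show (x ^ k) ^ (2 ^ 1) = 1
      rw [pow_one, ← zpow_natCast, ← zpow_mul, mul_comm, zpow_mul, zpow_natCast, pow_two, hxx, one_zpow]
    have hj : IsPGroup 2 ↥(zpowers x ⊔ Q) := by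
      refine IsPGroup.to_sup_of_normal_right' hz hQ ?_
      rw [zpowers_le]
      rw [mem_normalizer_iff]
      intro y
      constructor
      · intro hy
        exact hs.conj_mem hx hy
      · intro hy
        have h1 := hs.conj_mem (inv_mem hx) hy
        have e : x⁻¹ * (x * y * x⁻¹) * x⁻¹⁻¹ = y := by group
        rwa [e] at h1
    have h1 : zpowers x ⊔ Q = (P : Subgroup X) := P.is_maximal' hj (by rw [hPQ]; exact le_sup_right)
    rw [← hPQ, ← h1]
    exact mem_sup_left (mem_zpowers x)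
  have hAQ : A ≤ Q := fun x hx => hin x (hAH hx) (h.tis.sq x hx)
  have hsc := h.strongly_closed hQ hAQ
  have hHN : H = normalizer (A : Set X) := by
    refine le_antisymm ?_ (h.normalizer_le_of_se hH hAH)
    intro g hg
    rw [mem_normalizer_iff]
    intro x
    constructor
    · intro hx
      exact hsc.2 x hx g (hs.conj_mem hg (hAQ hx))
    · intro hx
      have h1 := hsc.2 _ hx g⁻¹ (by
        have e : g⁻¹ * (g * x * g⁻¹) * g⁻¹⁻¹ = x := by group
        rw [e]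
        have h2 := hs.conj_mem (inv_mem hg) (hAQ hx)
        rwa [e] at h2)
      have e : g⁻¹ * (g * x * g⁻¹) * g⁻¹⁻¹ = x := by group
      rwa [e] at h1
  refine ⟨H, Q, hH, hs, hQ, hHN, fun x => ⟨fun hx => ⟨hAQ hx, h.tis.sq x hx⟩, ?_⟩⟩
  rintro ⟨hx, hxx⟩
  by_cases hx1 : x = 1
  · rw [hx1]; exact one_mem _
  obtain ⟨a, ha, ha1⟩ := h.tis.exists_ne h.ptA
  obtain ⟨g, hg⟩ := isConj_iff.1 (isConj_of_involutions hH a x
    (orderOf_eq_two_of_mul_self (h.tis.sq a ha) ha1) (orderOf_eq_two_of_mul_self hxx hx1))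
  have h1 := hsc.2 a ha g (by rw [hg]; exact hx)
  rwa [hg] at h1

/-- **LEMMA SE**, unconditional -/
theorem main' (h : Two A B) :
    (∀ t ∈ A, t ≠ 1 → ∃ u ∈ B, u ≠ 1 ∧ (t * u) ^ 3 = 1) ∨
    (Lie.IsoSuzuki X ∧ Nat.card X = Nat.card A ^ 2 * (Nat.card A ^ 2 + 1) * (Nat.card A - 1) ∧
      ∃ P : Sylow 2 X, ∀ x, x ∈ A ↔ x ∈ P ∧ x * x = 1) :=
  h.main (h.quot.strOut h.simple.1 h.simple.2)

end Two

end Cfsg.Agent.Omega.NO1.SE
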